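import Mathlib

/-!
Sections of a base change of a scheme over a field along a field extension.
-/

set_option autoImplicit false
set_option backward.isDefEq.respectTransparency false

universe u

open CategoryTheory CategoryTheory.Limits AlgebraicGeometry

namespace Groth.Agent.GeomRedImage

variable {X : Scheme.{u}} {k : Type u} [Field k] (f : X ⟶ Spec (CommRingCat.of k))

/-- The `k`-algebra structure on sections. -/
@[reducible] noncomputable def secAlg (W : X.Opens) : Algebra k Γ(X, W) :=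
  ((f.appLE ⊤ W le_top).hom.comp (Scheme.ΓSpecIso (CommRingCat.of k)).inv.hom).toAlgebra

theorem isPushoutSec (K : Type u) [Field K] [Algebra k K] {W : X.Opens} (hW : IsAffineOpen W) :
    IsPushout ((Scheme.ΓSpecIso (CommRingCat.of k)).inv ≫ f.appLE ⊤ W le_top)
      (CommRingCat.ofHom (algebraMap k K))
      ((pullback.fst f (Spec.map (CommRingCat.ofHom (algebraMap k K)))).appLE W
        (pullback.fst f (Spec.map (CommRingCat.ofHom (algebraMap k K))) ⁻¹ᵁ W) le_rfl)
      ((Scheme.ΓSpecIso (CommRingCat.of K)).inv ≫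
        (pullback.snd f (Spec.map (CommRingCat.ofHom (algebraMap k K)))).appLE ⊤
          (pullback.fst f (Spec.map (CommRingCat.ofHom (algebraMap k K))) ⁻¹ᵁ W) le_top) := by
  let t := Spec.map (CommRingCat.ofHom (algebraMap k K))
  have H : IsPullback (pullback.fst f t) (pullback.snd f t) f t := IsPullback.of_hasPullback f t
  have h1 : (⊤ : (Spec (CommRingCat.of K)).Opens) ≤ t ⁻¹ᵁ ⊤ := le_top
  have hUY : pullback.fst f t ⁻¹ᵁ W = pullback.fst f t ⁻¹ᵁ W ⊓ pullback.snd f t ⁻¹ᵁ ⊤ := by
    rw [Scheme.Hom.preimage_top, inf_top_eq]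
  haveI : IsIso (pushoutSection H h1 (le_top : W ≤ f ⁻¹ᵁ ⊤) hUY) :=
    isIso_pushoutSection_of_isAffineOpen H h1 le_top hUY (isAffineOpen_top _) (isAffineOpen_top _) hW
  have hp := (isIso_pushoutSection_iff H h1 (le_top : W ≤ f ⁻¹ᵁ ⊤) hUY).1 inferInstance
  refine hp.of_iso (Scheme.ΓSpecIso _) (Iso.refl _) (Scheme.ΓSpecIso _) (Iso.refl _) ?_ ?_ ?_ ?_
  · simp
  · rw [show t.appLE ⊤ ⊤ h1 = t.appTop by simp [Scheme.Hom.appLE]]
    exact Scheme.ΓSpecIso_naturality _
  · simp [t]
  · simp [t]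

end Groth.Agent.GeomRedImage
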